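import Mathlib
import Groth.Agent.Lib.Helper8.Disp.Units

/-! `W(R)` is `p`-adically and `I_R`-adically complete when `R` is `p`-adically complete. -/

set_option autoImplicit false

universe u

namespace Groth.Agent.H8.WittComplete

open Groth.Agent.H8.Disp

variable {p : ℕ} [Fact p.Prime] {R : Type u} [CommRing R]

/-- The ideal of Witt vectors whose first `m` components lie in `p^m R`. -/
noncomputable def KK (p : ℕ) [Fact p.Prime] (R : Type u) [CommRing R] (m : ℕ) :
    Ideal (WittVector p R) :=
  RingHom.ker ((WittVector.truncate (p := p) m).comp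
    (WittVector.map (Ideal.Quotient.mk (Ideal.span {(p : R) ^ m}))))

theorem sub_mem_KK_iff {m : ℕ} {x y : WittVector p R} :
    x - y ∈ KK p R m ↔ ∀ c < m, x.coeff c - y.coeff c ∈ Ideal.span {(p : R) ^ m} := by
  rw [KK, RingHom.sub_mem_ker_iff, RingHom.comp_apply, RingHom.comp_apply,
    TruncatedWittVector.ext_iff]
  constructor
  · intro h c hc
    have := h ⟨c, hc⟩
    rw [WittVector.coeff_truncate, WittVector.coeff_truncate, WittVector.map_coeff,
      WittVector.map_coeff] at this
    rw [← Ideal.Quotient.eq]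
    exact this
  · intro h c
    rw [WittVector.coeff_truncate, WittVector.coeff_truncate, WittVector.map_coeff,
      WittVector.map_coeff]
    rw [Ideal.Quotient.eq]
    exact h c c.2

theorem mem_KK_iff {m : ℕ} {x : WittVector p R} :
    x ∈ KK p R m ↔ ∀ c < m, x.coeff c ∈ Ideal.span {(p : R) ^ m} := by
  have := sub_mem_KK_iff (p := p) (R := R) (m := m) (x := x) (y := 0)
  simpa using this

theorem p_pow_mem_KK (m : ℕ) : (p : WittVector p R) ^ (m * m) ∈ KK p R m := by
  rw [KK, RingHom.mem_ker, RingHom.comp_apply, map_pow, map_natCast, ← RingHom.mem_ker]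
  apply p_pow_mem_ker_truncate
  rw [← map_natCast (Ideal.Quotient.mk (Ideal.span {(p : R) ^ m})), ← map_pow,
    Ideal.Quotient.eq_zero_iff_mem]
  exact Ideal.mem_span_singleton_self _

theorem p_pow_mul_mem_KK {m n : ℕ} (h : m * m ≤ n) (t : WittVector p R) :
    (p : WittVector p R) ^ n * t ∈ KK p R m := by
  obtain ⟨d, rfl⟩ := Nat.exists_eq_add_of_le h
  rw [pow_add, mul_assoc]
  exact Ideal.mul_mem_right _ _ (p_pow_mem_KK m)

theorem eq_zero_of_forall_mem_KK [IsHausdorff (Ideal.span {(p : R)}) R] {x : WittVector p R}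
    (h : ∀ m, x ∈ KK p R m) : x = 0 := by
  ext c
  rw [WittVector.zero_coeff]
  apply IsHausdorff.haus (I := Ideal.span {(p : R)}) inferInstance
  intro m
  rw [SModEq.zero, smul_eq_mul, Ideal.mul_top, Ideal.span_singleton_pow]
  have := (mem_KK_iff.mp (h (m + c + 1))) c (by omega)
  rw [Ideal.mem_span_singleton] at this ⊢
  exact (pow_dvd_pow _ (by omega)).trans this

/-- partial sums -/
noncomputable def psum (y : ℕ → WittVector p R) (n : ℕ) : WittVector p R :=
  ∑ j ∈ Finset.range n, (p : WittVector p R) ^ j * y j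

theorem psum_add (y : ℕ → WittVector p R) (n k : ℕ) :
    psum y (n + k) = psum y n + (p : WittVector p R) ^ n * psum (fun j => y (n + j)) k := by
  rw [psum, psum, psum, Finset.sum_range_add, Finset.mul_sum, add_right_inj]
  refine Finset.sum_congr rfl fun j _ => ?_
  rw [pow_add, mul_assoc]

theorem psum_sub_mem_KK (y : ℕ → WittVector p R) {m a b : ℕ} (ha : m * m ≤ a) (hb : m * m ≤ b) :
    psum y a - psum y b ∈ KK p R m := by
  wlog hab : b ≤ a generalizing a b
  · have := this hb ha (by omega)
    rw [← neg_sub]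
    exact neg_mem this
  obtain ⟨d, rfl⟩ := Nat.exists_eq_add_of_le hab
  rw [psum_add, add_sub_cancel_left]
  exact p_pow_mul_mem_KK hb _

theorem exists_series_limit [IsAdicComplete (Ideal.span {(p : R)}) R] (y : ℕ → WittVector p R) :
    ∃ L : WittVector p R, ∀ m n, m * m ≤ n → L - psum y n ∈ KK p R m := by
  have hprec : IsPrecomplete (Ideal.span {(p : R)}) R := inferInstance
  have hmem : ∀ (m : ℕ) (x : R), x ∈ (Ideal.span {(p : R)} ^ m • ⊤ : Submodule R R) ↔
      (p : R) ^ m ∣ x := by
    intro m x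
    rw [smul_eq_mul, Ideal.mul_top, Ideal.span_singleton_pow, Ideal.mem_span_singleton]
  let h : ℕ → ℕ → R := fun c m => (psum y ((m + c + 1) * (m + c + 1))).coeff c
  have hcauchy : ∀ c, ∀ {m n : ℕ}, m ≤ n →
      h c m ≡ h c n [SMOD (Ideal.span {(p : R)} ^ m • ⊤ : Submodule R R)] := by
    intro c m n hmn
    rw [SModEq.sub_mem, hmem]
    have h1 : psum y ((m + c + 1) * (m + c + 1)) - psum y ((n + c + 1) * (n + c + 1)) ∈
        KK p R (m + c + 1) :=
      psum_sub_mem_KK y le_rfl (Nat.mul_le_mul (by omega) (by omega))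
    have := (sub_mem_KK_iff.mp h1) c (by omega)
    rw [Ideal.mem_span_singleton] at this
    exact (pow_dvd_pow _ (by omega)).trans this
  choose ℓ hℓ using fun c => hprec.prec (hcauchy c)
  refine ⟨WittVector.mk p ℓ, fun m n hmn => ?_⟩
  rw [sub_mem_KK_iff]
  intro c hc
  have h1 : ℓ c - h c m ∈ Ideal.span {(p : R) ^ m} := by
    have := hℓ c m
    rw [SModEq.sub_mem, hmem] at this
    rw [Ideal.mem_span_singleton, ← dvd_neg, neg_sub]
    exact this
  have h2 : h c m - (psum y n).coeff c ∈ Ideal.span {(p : R) ^ m} := by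
    have h3 : psum y ((m + c + 1) * (m + c + 1)) - psum y n ∈ KK p R m :=
      psum_sub_mem_KK y (Nat.mul_le_mul (by omega) (by omega)) hmn
    exact (sub_mem_KK_iff.mp h3) c hc
  have : (WittVector.mk p ℓ).coeff c - (psum y n).coeff c =
      (ℓ c - h c m) + (h c m - (psum y n).coeff c) := by
    rw [WittVector.coeff_mk]; ring
  rw [this]
  exact add_mem h1 h2

theorem exists_series_limits [IsAdicComplete (Ideal.span {(p : R)}) R] (y : ℕ → WittVector p R) :
    ∃ L : ℕ → WittVector p R, (∀ n, L 0 - psum y n = (p : WittVector p R) ^ n * L n) ∧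
      ∀ n m k, m * m ≤ k → L n - psum (fun j => y (n + j)) k ∈ KK p R m := by
  choose L hL using fun n => exists_series_limit (fun j => y (n + j))
  refine ⟨L, fun n => ?_, hL⟩
  rw [← sub_eq_zero]
  apply eq_zero_of_forall_mem_KK
  intro m
  have h1 : L 0 - psum y (n + m * m) ∈ KK p R m := by
    have := hL 0 m (n + m * m) (by omega)
    simpa using this
  have h2 := hL n m (m * m) le_rfl
  have : L 0 - psum y n - (p : WittVector p R) ^ n * L n =
      (L 0 - psum y (n + m * m)) -
        (p : WittVector p R) ^ n * (L n - psum (fun j => y (n + j)) (m * m)) := by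
    rw [psum_add]; ring
  rw [this]
  exact sub_mem h1 (Ideal.mul_mem_left _ _ h2)


theorem mem_span_p_pow_iff (n : ℕ) (x : WittVector p R) :
    x ∈ (Ideal.span {(p : WittVector p R)} ^ n • ⊤ : Submodule (WittVector p R) (WittVector p R)) ↔
      ∃ t, x = (p : WittVector p R) ^ n * t := by
  rw [smul_eq_mul, Ideal.mul_top, Ideal.span_singleton_pow, Ideal.mem_span_singleton]
  exact ⟨fun ⟨t, ht⟩ => ⟨t, ht⟩, fun ⟨t, ht⟩ => ⟨t, ht⟩⟩

theorem isHausdorff_p [IsAdicComplete (Ideal.span {(p : R)}) R] :
    IsHausdorff (Ideal.span {(p : WittVector p R)}) (WittVector p R) := by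
  refine ⟨fun x hx => ?_⟩
  apply eq_zero_of_forall_mem_KK
  intro m
  have := hx (m * m)
  rw [SModEq.zero, mem_span_p_pow_iff] at this
  obtain ⟨t, rfl⟩ := this
  exact p_pow_mul_mem_KK le_rfl t

theorem isPrecomplete_p [IsAdicComplete (Ideal.span {(p : R)}) R] :
    IsPrecomplete (Ideal.span {(p : WittVector p R)}) (WittVector p R) := by
  refine ⟨fun f hf => ?_⟩
  have hstep : ∀ n, ∃ t, f (n + 1) - f n = (p : WittVector p R) ^ n * t := by
    intro n
    have := (hf (Nat.le_succ n)).symm
    rw [SModEq.sub_mem, mem_span_p_pow_iff] at this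
    exact this
  choose y hy using hstep
  have hfn : ∀ n, f n = f 0 + psum y n := by
    intro n
    induction n with
    | zero => simp [psum]
    | succ n ih =>
      rw [psum, Finset.sum_range_succ, ← psum, ← hy n, ← add_assoc, ← ih]; ring
  obtain ⟨L, hL, -⟩ := exists_series_limits y
  refine ⟨f 0 + L 0, fun n => ?_⟩
  rw [SModEq.comm, SModEq.sub_mem, mem_span_p_pow_iff]
  refine ⟨L n, ?_⟩
  rw [hfn n, add_sub_add_left_eq_sub, hL n]

theorem isAdicComplete_p [IsAdicComplete (Ideal.span {(p : R)}) R] :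
    IsAdicComplete (Ideal.span {(p : WittVector p R)}) (WittVector p R) :=
  { toIsHausdorff := isHausdorff_p
    toIsPrecomplete := isPrecomplete_p }

/-! ### The `I_R`-adic topology -/

theorem mem_ker_constantCoeff_iff (x : WittVector p R) :
    x ∈ RingHom.ker (WittVector.constantCoeff : WittVector p R →+* R) ↔
      ∃ w, WittVector.verschiebung w = x := by
  rw [RingHom.mem_ker, ← mem_IV_iff, ← IT_one_eq, mem_IT_iff]
  constructor
  · intro h i hi
    obtain rfl : i = 0 := by omega
    exact h
  · intro h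
    exact h 0 Nat.one_pos

theorem ker_sq : RingHom.ker (WittVector.constantCoeff : WittVector p R →+* R) *
      RingHom.ker (WittVector.constantCoeff : WittVector p R →+* R) =
    Ideal.span {(p : WittVector p R)} *
      RingHom.ker (WittVector.constantCoeff : WittVector p R →+* R) := by
  have hV : ∀ a b : WittVector p R, WittVector.verschiebung a * WittVector.verschiebung b =
      (p : WittVector p R) * WittVector.verschiebung (a * b) := by
    intro a b
    rw [← WittVector.verschiebung_mul_frobenius, WittVector.frobenius_verschiebung, ← mul_assoc,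
      ← nsmul_eq_mul', map_nsmul, nsmul_eq_mul]
  apply le_antisymm
  · rw [Ideal.mul_le]
    intro a ha b hb
    obtain ⟨a', rfl⟩ := (mem_ker_constantCoeff_iff a).mp ha
    obtain ⟨b', rfl⟩ := (mem_ker_constantCoeff_iff b).mp hb
    rw [hV]
    exact Ideal.mul_mem_mul (Ideal.mem_span_singleton_self _)
      ((mem_ker_constantCoeff_iff _).mpr ⟨_, rfl⟩)
  · rw [Ideal.mul_le]
    intro a ha b hb
    obtain ⟨t, rfl⟩ := Ideal.mem_span_singleton.mp ha
    obtain ⟨b', rfl⟩ := (mem_ker_constantCoeff_iff b).mp hb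
    have : (p : WittVector p R) * t * WittVector.verschiebung b' =
        WittVector.verschiebung 1 * WittVector.verschiebung (b' * WittVector.frobenius t) := by
      rw [hV, one_mul, WittVector.verschiebung_mul_frobenius]; ring
    rw [this]
    exact Ideal.mul_mem_mul ((mem_ker_constantCoeff_iff _).mpr ⟨_, rfl⟩)
      ((mem_ker_constantCoeff_iff _).mpr ⟨_, rfl⟩)

theorem ker_pow_succ (n : ℕ) :
    RingHom.ker (WittVector.constantCoeff : WittVector p R →+* R) ^ (n + 1) =
      Ideal.span {(p : WittVector p R) ^ n} *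
        RingHom.ker (WittVector.constantCoeff : WittVector p R →+* R) := by
  induction n with
  | zero => simp
  | succ n ih =>
    rw [pow_succ, ih, mul_assoc, ker_sq, ← mul_assoc, Ideal.span_singleton_mul_span_singleton,
      ← pow_succ]

theorem mem_ker_pow_succ_iff (n : ℕ) (x : WittVector p R) :
    x ∈ (RingHom.ker (WittVector.constantCoeff : WittVector p R →+* R) ^ (n + 1) • ⊤ :
      Submodule (WittVector p R) (WittVector p R)) ↔
      ∃ t, t.coeff 0 = 0 ∧ x = (p : WittVector p R) ^ n * t := by
  rw [smul_eq_mul, Ideal.mul_top, ker_pow_succ, Ideal.mem_span_singleton_mul]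
  constructor
  · rintro ⟨t, ht, rfl⟩
    exact ⟨t, ht, rfl⟩
  · rintro ⟨t, ht, rfl⟩
    exact ⟨t, ht, rfl⟩

theorem isHausdorff_ker [IsAdicComplete (Ideal.span {(p : R)}) R] :
    IsHausdorff (RingHom.ker (WittVector.constantCoeff : WittVector p R →+* R))
      (WittVector p R) := by
  refine ⟨fun x hx => ?_⟩
  apply (isHausdorff_p (p := p) (R := R)).haus
  intro n
  have := hx (n + 1)
  rw [SModEq.zero, mem_ker_pow_succ_iff] at this
  obtain ⟨t, -, rfl⟩ := this
  rw [SModEq.zero, mem_span_p_pow_iff]
  exact ⟨t, rfl⟩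

theorem psum_coeff_zero (y : ℕ → WittVector p R) (hy : ∀ j, (y j).coeff 0 = 0) (n : ℕ) :
    (psum y n).coeff 0 = 0 := by
  change WittVector.constantCoeff (psum y n) = 0
  rw [psum, map_sum]
  refine Finset.sum_eq_zero fun j _ => ?_
  rw [map_mul]
  have : WittVector.constantCoeff (y j) = 0 := hy j
  rw [this, mul_zero]

theorem isPrecomplete_ker [IsAdicComplete (Ideal.span {(p : R)}) R] :
    IsPrecomplete (RingHom.ker (WittVector.constantCoeff : WittVector p R →+* R))
      (WittVector p R) := by
  refine ⟨fun f hf => ?_⟩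
  have hstep : ∀ n, ∃ t, t.coeff 0 = 0 ∧ f (n + 1 + 1) - f (n + 1) = (p : WittVector p R) ^ n * t := by
    intro n
    have := (hf (Nat.le_succ (n + 1))).symm
    rw [SModEq.sub_mem, mem_ker_pow_succ_iff] at this
    exact this
  choose y hy0 hy using hstep
  have hfn : ∀ n, f (n + 1) = f 1 + psum y n := by
    intro n
    induction n with
    | zero => simp [psum]
    | succ n ih =>
      rw [psum, Finset.sum_range_succ, ← psum, ← hy n, ← add_assoc, ← ih]; ring
  obtain ⟨L, hL, hL'⟩ := exists_series_limits y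
  have hL0 : ∀ n, (L n).coeff 0 = 0 := by
    intro n
    apply IsHausdorff.haus (I := Ideal.span {(p : R)}) inferInstance
    intro m
    rw [SModEq.zero, smul_eq_mul, Ideal.mul_top, Ideal.span_singleton_pow]
    have h1 := hL' n (m + 1) ((m + 1) * (m + 1)) le_rfl
    have h2 := (sub_mem_KK_iff.mp h1) 0 (by omega)
    rw [psum_coeff_zero _ (fun j => hy0 (n + j)), sub_zero, Ideal.mem_span_singleton] at h2
    rw [Ideal.mem_span_singleton]
    exact (pow_dvd_pow _ (by omega)).trans h2
  refine ⟨f 1 + L 0, fun n => ?_⟩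
  rcases n with _ | n
  · rw [SModEq.sub_mem, pow_zero, Ideal.one_eq_top, smul_eq_mul, Ideal.mul_top]
    exact Submodule.mem_top
  · rw [SModEq.comm, SModEq.sub_mem, mem_ker_pow_succ_iff]
    refine ⟨L n, hL0 n, ?_⟩
    rw [hfn n, add_sub_add_left_eq_sub, hL n]

theorem isAdicComplete_ker [IsAdicComplete (Ideal.span {(p : R)}) R] :
    IsAdicComplete (RingHom.ker (WittVector.constantCoeff : WittVector p R →+* R))
      (WittVector p R) :=
  { toIsHausdorff := isHausdorff_ker
    toIsPrecomplete := isPrecomplete_ker }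

end Groth.Agent.H8.WittComplete
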