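import Mathlib

set_option autoImplicit false
universe u v
open Function WittVector

namespace Groth.Agent.H8.WittCyc

variable {p : ℕ} [hp : Fact p.Prime]

local notation "𝕎" => WittVector p

/-- coefficients below `N` agree as soon as the difference has vanishing coefficients below `N`. -/
theorem coeff_eq_of_sub {R : Type*} [CommRing R] {x y : 𝕎 R} {N : ℕ}
    (h : ∀ k < N, (x - y).coeff k = 0) : ∀ k < N, x.coeff k = y.coeff k := by
  intro k hk
  have h1 := (WittVector.mem_ker_truncate (p := p) N (x - y)).mpr h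
  rw [RingHom.mem_ker, map_sub, sub_eq_zero] at h1
  have h2 := congrArg (fun t => TruncatedWittVector.coeff (⟨k, hk⟩ : Fin N) t) h1
  simpa [WittVector.coeff_truncate] using h2

theorem iterV_sum {R : Type*} [CommRing R] {κ : Type*} (s : Finset κ) (h : κ → 𝕎 R) (n : ℕ) :
    verschiebung^[n] (∑ k ∈ s, h k) = ∑ k ∈ s, verschiebung^[n] (h k) := by
  classical
  induction s using Finset.induction_on with
  | empty => simp only [Finset.sum_empty]; exact iterate_map_zero _ n
  | insert a s ha ih =>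
    rw [Finset.sum_insert ha, Finset.sum_insert ha, iterate_map_add, ih]

theorem map_iterate_verschiebung {R S : Type*} [CommRing R] [CommRing S] (f : R →+* S) (x : 𝕎 R)
    (k : ℕ) : WittVector.map f (verschiebung^[k] x) = verschiebung^[k] (WittVector.map f x) := by
  induction k with
  | zero => rfl
  | succ k ih =>
    rw [Function.iterate_succ_apply', Function.iterate_succ_apply', WittVector.map_verschiebung, ih]

theorem iterate_frobenius_teichmuller {R : Type*} [CommRing R] [CharP R p] (b : R) (k : ℕ) :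
    frobenius^[k] (teichmuller p b) = teichmuller p (b ^ p ^ k) := by
  ext i
  rw [WittVector.iterate_frobenius_coeff]
  cases i with
  | zero => rw [WittVector.teichmuller_coeff_zero, WittVector.teichmuller_coeff_zero]
  | succ i =>
    rw [WittVector.teichmuller_coeff_pos p b _ (Nat.succ_pos i),
      WittVector.teichmuller_coeff_pos p _ _ (Nat.succ_pos i)]
    exact zero_pow (pow_ne_zero _ hp.out.ne_zero)

/-- The limit lemma. -/
theorem exists_of_approx {A B : Type*} [CommRing A] [CommRing B] (f : A →+* B)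
    {σ : Type*} [Fintype σ] (g : σ → 𝕎 B) (w : 𝕎 B) (X : ℕ → σ → 𝕎 A)
    (ha : ∀ N s, ∀ k < N, (X (N + 1) s).coeff k = (X N s).coeff k)
    (hb : ∀ N, ∀ k < N, (w - ∑ s, WittVector.map f (X N s) * g s).coeff k = 0) :
    ∃ x : σ → 𝕎 A, w = ∑ s, WittVector.map f (x s) * g s := by
  classical
  have hstab : ∀ s k N, k < N → (X N s).coeff k = (X (k + 1) s).coeff k := by
    intro s k N hN
    induction N, hN using Nat.le_induction with
    | base => rfl
    | succ N hN ih => rw [ha N s k hN, ih]
  obtain ⟨x, hx⟩ : ∃ x : σ → 𝕎 A, ∀ s k, (x s).coeff k = (X (k + 1) s).coeff k :=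
    ⟨fun s => WittVector.mk p (fun k => (X (k + 1) s).coeff k), fun _ _ => rfl⟩
  refine ⟨x, ?_⟩
  ext k
  have htr : ∀ s, WittVector.truncate (k + 1) (WittVector.map f (x s)) =
      WittVector.truncate (k + 1) (WittVector.map f (X (k + 1) s)) := by
    intro s
    apply TruncatedWittVector.ext
    intro i
    rw [WittVector.coeff_truncate, WittVector.coeff_truncate, WittVector.map_coeff,
      WittVector.map_coeff, hx, hstab s i (k + 1) i.2]
  have h1 : WittVector.truncate (k + 1) w =
      WittVector.truncate (k + 1) (∑ s, WittVector.map f (X (k + 1) s) * g s) := by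
    have h := (WittVector.mem_ker_truncate (p := p) (k + 1) _).mpr (hb (k + 1))
    rw [RingHom.mem_ker, map_sub, sub_eq_zero] at h
    exact h
  have h2 : WittVector.truncate (k + 1) (∑ s, WittVector.map f (x s) * g s) =
      WittVector.truncate (k + 1) (∑ s, WittVector.map f (X (k + 1) s) * g s) := by
    simp only [map_sum, map_mul, htr]
  have h3 := h1.trans h2.symm
  have h4 := congrArg (fun t => TruncatedWittVector.coeff (⟨k, Nat.lt_succ_self k⟩ : Fin (k + 1)) t) h3
  simp only [WittVector.coeff_truncate] at h4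
  exact h4

/-- Successive Teichmüller approximation with coefficients in a spanning family. -/
theorem decomp {A B : Type*} [CommRing A] [CommRing B] [Algebra A B] {ι : Type*} [Fintype ι]
    (v : ι → B) (hspan : Submodule.span A (Set.range v) = ⊤) (η : 𝕎 B) :
    ∃ (α : ℕ → ι → A) (ρ : ℕ → 𝕎 B), ∀ N,
      η = ∑ k ∈ Finset.range N,
          verschiebung^[k] (∑ i, teichmuller p (algebraMap A B (α k i) * v i)) +
        verschiebung^[N] (ρ N) := by
  classical
  have hcf : ∀ b : B, ∃ c' : ι → A, ∑ i, algebraMap A B (c' i) * v i = b := by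
    intro b
    have hb : b ∈ Submodule.span A (Set.range v) := by rw [hspan]; trivial
    obtain ⟨c', hc'⟩ := (Submodule.mem_span_range_iff_exists_fun A).mp hb
    exact ⟨c', by simpa [Algebra.smul_def] using hc'⟩
  choose cf hcf' using hcf
  obtain ⟨τ, hτ⟩ : ∃ τ : 𝕎 B → 𝕎 B, ∀ w, τ w =
      ∑ i, teichmuller p (algebraMap A B (cf (w.coeff 0) i) * v i) := ⟨_, fun _ => rfl⟩
  obtain ⟨step, hstepdef⟩ : ∃ step : 𝕎 B → 𝕎 B, ∀ w, step w = (w - τ w).shift 1 :=
    ⟨_, fun _ => rfl⟩
  have hτ0 : ∀ w : 𝕎 B, (w - τ w).coeff 0 = 0 := by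
    intro w
    have h : (w - τ w).coeff 0 = WittVector.constantCoeff (w - τ w) := rfl
    rw [h, map_sub, hτ, map_sum]
    simp only [WittVector.constantCoeff_apply, WittVector.teichmuller_coeff_zero]
    rw [hcf' (w.coeff 0), sub_self]
  have hstep : ∀ w, w = τ w + verschiebung (step w) := by
    intro w
    have h := WittVector.eq_iterate_verschiebung (x := w - τ w) (n := 1)
      (by intro i hi; obtain rfl : i = 0 := by omega
          exact hτ0 w)
    rw [Function.iterate_one] at h
    rw [hstepdef, ← h]; ring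
  have key : ∀ N, η = ∑ k ∈ Finset.range N, verschiebung^[k] (τ (step^[k] η)) +
      verschiebung^[N] (step^[N] η) := by
    intro N
    induction N with
    | zero => simp
    | succ N ih =>
      rw [Finset.sum_range_succ, add_assoc,
        Function.iterate_succ_apply (f := ⇑(verschiebung (p := p) (R := B))),
        ← iterate_map_add, Function.iterate_succ_apply' (f := step), ← hstep]
      exact ih
  refine ⟨fun k i => cf ((step^[k] η).coeff 0) i, fun N => step^[N] η, ?_⟩
  intro N
  have := key N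
  simp only [hτ] at this
  exact this

theorem nt_aux (ℓ : ℕ) (hℓ : 0 < ℓ) (hpℓ : ¬ p ∣ ℓ) (j : ℕ) :
    ∃ m t : ℕ, m ≤ ℓ ∧ p ^ j * m = 1 + ℓ * t ∧ t ≤ p ^ j := by
  have hp1 : 1 ≤ p ^ j := Nat.one_le_pow _ _ hp.out.pos
  rcases Nat.lt_or_ge 1 ℓ with h1 | h1
  · have hcop : Nat.Coprime (p ^ j) ℓ :=
      Nat.Coprime.pow_left j ((Nat.Prime.coprime_iff_not_dvd hp.out).mpr hpℓ)
    obtain ⟨m, hmlt, hm⟩ := Nat.exists_mul_mod_eq_one_of_coprime hcop h1
    refine ⟨m, p ^ j * m / ℓ, hmlt.le, ?_, ?_⟩
    · have h := Nat.div_add_mod (p ^ j * m) ℓ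
      rw [hm] at h
      rw [add_comm]; exact h.symm
    · have h3 : ℓ * (p ^ j * m / ℓ) ≤ ℓ * p ^ j := by
        calc ℓ * (p ^ j * m / ℓ) ≤ p ^ j * m := Nat.mul_div_le _ _
          _ ≤ p ^ j * ℓ := Nat.mul_le_mul_left _ hmlt.le
          _ = ℓ * p ^ j := Nat.mul_comm _ _
      exact Nat.le_of_mul_le_mul_left h3 hℓ
  · obtain rfl : ℓ = 1 := by omega
    refine ⟨1, p ^ j - 1, le_refl _, ?_, Nat.sub_le _ _⟩
    rw [Nat.mul_one, Nat.one_mul]; omega

/-- the key identity in `B`. -/
theorem keyB (ℓ : ℕ) (hℓ : 0 < ℓ) (hpℓ : ¬ p ∣ ℓ) {A B : Type*} [CommRing A] [CommRing B]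
    [IsDomain A] [IsDomain B] [Algebra A B] {ι : Type*} [Fintype ι]
    (v : ι → B) (c : ι → A) (hc : ∀ i, algebraMap A B (c i) = v i ^ ℓ) :
    ∃ a₀ : A, a₀ ≠ 0 ∧ ∀ (i : ι) (j : ℕ), ∃ (m : Fin (ℓ + 1)) (e : A),
      algebraMap A B a₀ ^ p ^ j * v i = algebraMap A B e * (v i ^ (m : ℕ)) ^ p ^ j := by
  classical
  obtain ⟨d, hddef⟩ : ∃ d : ι → A, ∀ i, d i = if v i = 0 then 1 else c i := ⟨_, fun _ => rfl⟩
  have hd : ∀ i, d i ≠ 0 := by
    intro i
    by_cases h : v i = 0
    · rw [hddef, if_pos h]; exact one_ne_zero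
    · rw [hddef, if_neg h]
      intro h0
      apply h
      have h2 := hc i
      rw [h0, map_zero] at h2
      exact (pow_eq_zero_iff hℓ.ne').mp h2.symm
  refine ⟨∏ i, d i, Finset.prod_ne_zero_iff.mpr (fun i _ => hd i), ?_⟩
  intro i j
  by_cases h0 : v i = 0
  · refine ⟨⟨1, by omega⟩, 0, ?_⟩
    simp [h0]
  · obtain ⟨m, t, hm, hmt, ht⟩ := nt_aux (p := p) ℓ hℓ hpℓ j
    have hdi : d i = c i := by rw [hddef, if_neg h0]
    have hprod : ∏ i', d i' = c i * ∏ i' ∈ Finset.univ.erase i, d i' := by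
      rw [← hdi]; exact (Finset.mul_prod_erase Finset.univ d (Finset.mem_univ i)).symm
    refine ⟨⟨m, by omega⟩, c i ^ (p ^ j - t) * (∏ i' ∈ Finset.univ.erase i, d i') ^ p ^ j, ?_⟩
    have hv : (v i ^ m) ^ p ^ j = v i * algebraMap A B (c i) ^ t := by
      rw [← pow_mul, mul_comm m, hmt, pow_add, pow_one, pow_mul, ← hc i]
    show algebraMap A B (∏ i', d i') ^ p ^ j * v i =
      algebraMap A B (c i ^ (p ^ j - t) * (∏ i' ∈ Finset.univ.erase i, d i') ^ p ^ j) *
        (v i ^ m) ^ p ^ j
    rw [hprod, hv]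
    simp only [map_mul, map_pow]
    have h3 : algebraMap A B (c i) ^ p ^ j =
        algebraMap A B (c i) ^ (p ^ j - t) * algebraMap A B (c i) ^ t :=
      (pow_sub_mul_pow _ ht).symm
    rw [mul_pow, h3]; ring

/-- Main theorem, for a spanning family. -/
theorem main_family (ℓ n : ℕ) (hℓ : 0 < ℓ) (hpℓ : ¬ p ∣ ℓ)
    (A B : Type u) [CommRing A] [CommRing B] [IsDomain A] [IsDomain B] [Algebra A B]
    [CharP B p] {ι : Type u} [Fintype ι] (v : ι → B)
    (hspan : Submodule.span A (Set.range v) = ⊤)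
    (hpow : ∀ i, v i ^ ℓ ∈ Set.range (algebraMap A B)) (η : 𝕎 B) :
    ∃ a : A, a ≠ 0 ∧ teichmuller p (algebraMap A B a) * (verschiebung^[n] η) ∈
      Ideal.span (Set.range (fun x : 𝕎 A =>
        WittVector.map (algebraMap A B) (verschiebung^[n] x))) := by
  classical
  obtain ⟨f, hf⟩ : ∃ f : A →+* B, f = algebraMap A B := ⟨_, rfl⟩
  rw [← hf]
  have hpow' : ∀ i, ∃ c : A, f c = v i ^ ℓ := by
    intro i; obtain ⟨c, hc⟩ := hpow i; exact ⟨c, by rw [hf]; exact hc⟩
  choose c hc using hpow'
  obtain ⟨a₀, ha₀, hK⟩ := keyB (p := p) ℓ hℓ hpℓ v c (by intro i; rw [← hf]; exact hc i)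
  rw [← hf] at hK
  choose mK eK hKe using hK
  obtain ⟨α, ρ, hdec⟩ := decomp (p := p) (A := A) v hspan η
  rw [← hf] at hdec
  refine ⟨a₀, ha₀, ?_⟩
  obtain ⟨θ, hθ⟩ : ∃ θ : 𝕎 B, θ = frobenius^[n] (teichmuller p (f a₀)) := ⟨_, rfl⟩
  obtain ⟨g, hg⟩ : ∃ g : ι × Fin (ℓ + 1) → 𝕎 B,
      ∀ s, g s = frobenius^[n] (teichmuller p (v s.1 ^ (s.2 : ℕ))) := ⟨_, fun _ => rfl⟩
  obtain ⟨T, hT⟩ : ∃ T : ℕ → ι × Fin (ℓ + 1) → 𝕎 A, ∀ k s, T k s =
      if mK s.1 (k + n) = s.2 then
        verschiebung^[k] (teichmuller p (eK s.1 (k + n) * α k s.1)) else 0 :=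
    ⟨_, fun _ _ => rfl⟩
  obtain ⟨X, hX⟩ : ∃ X : ℕ → ι × Fin (ℓ + 1) → 𝕎 A,
      ∀ N s, X N s = ∑ k ∈ Finset.range N, T k s := ⟨_, fun _ _ => rfl⟩
  have hterm : ∀ k, θ * verschiebung^[k] (∑ i, teichmuller p (f (α k i) * v i)) =
      ∑ s, WittVector.map f (T k s) * g s := by
    intro k
    have h1 : frobenius^[k] θ = teichmuller p (f a₀ ^ p ^ (k + n)) := by
      rw [hθ, ← Function.iterate_add_apply, iterate_frobenius_teichmuller]
    have h2 : ∀ i, teichmuller p (f (α k i) * v i) * teichmuller p (f a₀ ^ p ^ (k + n)) =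
        WittVector.map f (teichmuller p (eK i (k + n) * α k i)) *
          frobenius^[k] (g (i, mK i (k + n))) := by
      intro i
      have hgi : frobenius^[k] (g (i, mK i (k + n))) =
          teichmuller p ((v i ^ (mK i (k + n) : ℕ)) ^ p ^ (k + n)) := by
        rw [hg, ← Function.iterate_add_apply, iterate_frobenius_teichmuller]
      have hB : f (α k i) * v i * f a₀ ^ p ^ (k + n) =
          f (eK i (k + n) * α k i) * (v i ^ (mK i (k + n) : ℕ)) ^ p ^ (k + n) := by
        have hk := hKe i (k + n)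
        calc f (α k i) * v i * f a₀ ^ p ^ (k + n)
            = f (α k i) * (f a₀ ^ p ^ (k + n) * v i) := by ring
          _ = f (α k i) * (f (eK i (k + n)) * (v i ^ (mK i (k + n) : ℕ)) ^ p ^ (k + n)) := by
              rw [hk]
          _ = _ := by rw [map_mul]; ring
      rw [hgi, WittVector.map_teichmuller, ← map_mul, ← map_mul, hB]
    calc θ * verschiebung^[k] (∑ i, teichmuller p (f (α k i) * v i))
        = verschiebung^[k] ((∑ i, teichmuller p (f (α k i) * v i)) * frobenius^[k] θ) := by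
          rw [mul_comm, WittVector.iterate_verschiebung_mul_left]
      _ = verschiebung^[k] (∑ i, WittVector.map f (teichmuller p (eK i (k + n) * α k i)) *
            frobenius^[k] (g (i, mK i (k + n)))) := by
          rw [h1, Finset.sum_mul]
          congr 1
          exact Finset.sum_congr rfl (fun i _ => h2 i)
      _ = ∑ i, verschiebung^[k] (WittVector.map f (teichmuller p (eK i (k + n) * α k i)) *
            frobenius^[k] (g (i, mK i (k + n)))) := iterV_sum _ _ _
      _ = ∑ i, WittVector.map f (verschiebung^[k] (teichmuller p (eK i (k + n) * α k i))) *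
            g (i, mK i (k + n)) := by
          refine Finset.sum_congr rfl (fun i _ => ?_)
          rw [← WittVector.iterate_verschiebung_mul_left, map_iterate_verschiebung]
      _ = ∑ s, WittVector.map f (T k s) * g s := by
          rw [Fintype.sum_prod_type]
          refine Finset.sum_congr rfl (fun i _ => ?_)
          rw [Finset.sum_eq_single (mK i (k + n))]
          · have hTi : T k (i, mK i (k + n)) =
                verschiebung^[k] (teichmuller p (eK i (k + n) * α k i)) :=
              (hT k _).trans (if_pos rfl)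
            rw [hTi]
          · intro j _ hj
            have hTj : T k (i, j) = 0 := (hT k _).trans (if_neg (Ne.symm hj))
            rw [hTj, map_zero, zero_mul]
          · intro h; exact absurd (Finset.mem_univ _) h
  have hsumX : ∀ N, ∑ s, WittVector.map f (X N s) * g s =
      θ * ∑ k ∈ Finset.range N, verschiebung^[k] (∑ i, teichmuller p (f (α k i) * v i)) := by
    intro N
    rw [Finset.mul_sum, Finset.sum_congr rfl (fun k _ => hterm k), Finset.sum_comm]
    refine Finset.sum_congr rfl (fun s _ => ?_)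
    rw [hX, map_sum, Finset.sum_mul]
  have hb : ∀ N, ∀ k < N, (θ * η - ∑ s, WittVector.map f (X N s) * g s).coeff k = 0 := by
    intro N k hk
    have h : θ * η - ∑ s, WittVector.map f (X N s) * g s =
        verschiebung^[N] (ρ N * frobenius^[N] θ) := by
      rw [hsumX N, ← WittVector.iterate_verschiebung_mul_left, mul_comm _ θ, ← mul_sub]
      congr 1
      exact sub_eq_iff_eq_add'.mpr (hdec N)
    rw [h]; exact WittVector.iterate_verschiebung_coeff_eq_zero _ hk
  have ha : ∀ N s, ∀ k < N, (X (N + 1) s).coeff k = (X N s).coeff k := by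
    intro N s
    apply coeff_eq_of_sub
    intro k hk
    have h : X (N + 1) s - X N s = T N s := by
      rw [hX, hX, Finset.sum_range_succ, add_sub_cancel_left]
    rw [h, hT]
    split_ifs
    · exact WittVector.iterate_verschiebung_coeff_eq_zero _ hk
    · simp
  obtain ⟨x, hx⟩ := exists_of_approx (p := p) f g (θ * η) X ha hb
  have hfinal : teichmuller p (f a₀) * verschiebung^[n] η =
      ∑ s, WittVector.map f (verschiebung^[n] (x s)) * teichmuller p (v s.1 ^ (s.2 : ℕ)) := by
    rw [mul_comm, WittVector.iterate_verschiebung_mul_left, mul_comm η, ← hθ, hx, iterV_sum]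
    refine Finset.sum_congr rfl (fun s _ => ?_)
    rw [hg, ← WittVector.iterate_verschiebung_mul_left, map_iterate_verschiebung]
  rw [hfinal]
  exact Ideal.sum_mem _ (fun s _ => Ideal.mul_mem_right _ _ (Ideal.subset_span ⟨x s, rfl⟩))

/-- S18587 form. -/
theorem main87
    (p : ℕ) [Fact p.Prime] (ℓ n : ℕ) (hℓ : 0 < ℓ) (hpℓ : ¬ p ∣ ℓ) (hn : 0 < n)
    (A B : Type u) [CommRing A] [CommRing B] [IsDomain A] [IsDomain B] [Algebra A B]
    [CharP A p] [CharP B p] (hinj : Function.Injective (algebraMap A B))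
    (y : Finset B) (hspan : Submodule.span A (y : Set B) = ⊤)
    (hpow : ∀ b ∈ y, b ^ ℓ ∈ Set.range (algebraMap A B))
    (ζ : WittVector p B)
    (hζ : ∃ η : WittVector p B, (⇑(WittVector.verschiebung : WittVector p B →+ WittVector p B))^[n] η = ζ) :
    ∃ a : A, a ≠ 0 ∧ WittVector.teichmuller p (algebraMap A B a) * ζ ∈
      Ideal.span (Set.range (fun x : WittVector p A =>
        WittVector.map (algebraMap A B) ((⇑(WittVector.verschiebung : WittVector p A →+ WittVector p A))^[n] x))) := by
  obtain ⟨η, rfl⟩ := hζ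
  have hr : Set.range (fun i : {b // b ∈ y} => (i : B)) = (y : Set B) := by
    ext b; simp
  exact main_family (p := p) ℓ n hℓ hpℓ A B (fun i : {b // b ∈ y} => (i : B))
    (by rw [hr]; exact hspan) (fun i => hpow i.1 i.2) η

/-- S18588 form. -/
theorem main88
    (p : ℕ) [Fact p.Prime] (ℓ n : ℕ) (hℓ : 0 < ℓ) (hpℓ : ¬ p ∣ ℓ) (hn : 0 < n)
    (A B : Type u) [CommRing A] [CommRing B] [IsDomain A] [IsDomain B] [Algebra A B]
    [CharP A p] [CharP B p] (hinj : Function.Injective (algebraMap A B))
    (y : Finset B) (hspan : Submodule.span A (y : Set B) = ⊤)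
    (hpow : ∀ b ∈ y, b ^ ℓ ∈ Set.range (algebraMap A B))
    (M : Type v) [AddCommGroup M] [Module (WittVector p A) M] [Module.Finite (WittVector p A) M]
    (hMn : ∀ (x : WittVector p A) (m : M),
      ((⇑(WittVector.verschiebung : WittVector p A →+ WittVector p A))^[n] x) • m = 0)
    (htf : ∀ a : A, a ≠ 0 → ∀ m : M, WittVector.teichmuller p a • m = 0 → m = 0)
    (ψ : WittVector p B →+ M)
    (hψ : ∀ (x : WittVector p A) (w : WittVector p B),
      ψ (WittVector.map (algebraMap A B) x * w) = x • ψ w)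
    (η : WittVector p B) :
    ψ ((⇑(WittVector.verschiebung : WittVector p B →+ WittVector p B))^[n] η) = 0 := by
  obtain ⟨a, ha, hmem⟩ := main87 p ℓ n hℓ hpℓ hn A B hinj y hspan hpow _ ⟨η, rfl⟩
  have key : ∀ w ∈ Ideal.span (Set.range (fun x : WittVector p A =>
        WittVector.map (algebraMap A B) ((⇑(WittVector.verschiebung : WittVector p A →+ WittVector p A))^[n] x))),
      ∀ r : WittVector p B, ψ (r * w) = 0 := by
    intro w hw
    induction hw using Submodule.span_induction with
    | mem w hw =>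
      obtain ⟨x, rfl⟩ := hw
      intro r
      show ψ (r * WittVector.map (algebraMap A B) (verschiebung^[n] x)) = 0
      rw [mul_comm, hψ, hMn]
    | zero => intro r; rw [mul_zero, map_zero]
    | add w w' _ _ hw hw' => intro r; rw [mul_add, map_add, hw r, hw' r, add_zero]
    | smul a w _ hw => intro r; rw [smul_eq_mul, ← mul_assoc]; exact hw (r * a)
  apply htf a ha
  rw [← hψ, WittVector.map_teichmuller]
  have h := key _ hmem 1
  rwa [one_mul] at h

end Groth.Agent.H8.WittCyc
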